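import Cfsg.Agent.Lib.CosetEnum.Ident
import Cfsg.Agent.Lib.CosetEnum.Restrict
import Cfsg.Agent.Lib.CosetEnum.L37.Data
import Cfsg.Agent.Lib.CosetEnum.L37.Bound
import Cfsg.Agent.Lib.CosetEnum.L37Slp
import Cfsg.Agent.Lib.Linear.Order

/-! The subgroup of index 2 of the presentation on a, …, f is PSL(3, 7). -/

set_option autoImplicit false
set_option maxRecDepth 20000
set_option Elab.async false

namespace Cfsg.Agent.Lib.CosetEnum.L37

open Cfsg.Agent.Lib.CosetEnum

local instance fact_seven : Fact (Nat.Prime 7) := ⟨by norm_num⟩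

/-- The points as vectors. -/
def pv (i : Fin 57) : Fin 3 → ZMod 7 := fun r => (((points.getD i.1 []).getD r.1 0 : ℕ) : ZMod 7)

theorem pv_cover : ∀ v : Fin 3 → ZMod 7, v = 0 ∨ ∃ j : Fin 57, ∃ c : ZMod 7, c • pv j = v := by
  decide +kernel

theorem pv_uniq : ∀ (i j : Fin 57) (c : ZMod 7), c • pv i = pv j → i = j := by
  decide +kernel

theorem pv_ne : ∀ i : Fin 57, pv i ≠ 0 := by decide +kernel

theorem image_ne (M : Matrix.SpecialLinearGroup (Fin 3) (ZMod 7)) (i : Fin 57) :
    Matrix.mulVec (M : Matrix (Fin 3) (Fin 3) (ZMod 7)) (pv i) ≠ 0 := by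
  intro h
  apply pv_ne i
  have := congrArg (Matrix.mulVec (M⁻¹ : Matrix.SpecialLinearGroup (Fin 3) (ZMod 7)).1) h
  rw [Matrix.mulVec_mulVec, ← Matrix.SpecialLinearGroup.coe_mul, inv_mul_cancel,
    Matrix.SpecialLinearGroup.coe_one, Matrix.one_mulVec, Matrix.mulVec_zero] at this
  exact this

/-- The point onto which a matrix maps a point. -/
noncomputable def act (M : Matrix.SpecialLinearGroup (Fin 3) (ZMod 7)) (i : Fin 57) : Fin 57 :=
  ((pv_cover (Matrix.mulVec (M : Matrix (Fin 3) (Fin 3) (ZMod 7)) (pv i))).resolve_left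
    (image_ne M i)).choose

theorem act_spec (M : Matrix.SpecialLinearGroup (Fin 3) (ZMod 7)) (i : Fin 57) :
    ∃ c : ZMod 7, c • pv (act M i) = Matrix.mulVec (M : Matrix (Fin 3) (Fin 3) (ZMod 7)) (pv i) :=
  ((pv_cover _).resolve_left (image_ne M i)).choose_spec

theorem act_eq (M : Matrix.SpecialLinearGroup (Fin 3) (ZMod 7)) (i j : Fin 57) (c : ZMod 7)
    (h : c • pv j = Matrix.mulVec (M : Matrix (Fin 3) (Fin 3) (ZMod 7)) (pv i)) : act M i = j := by
  obtain ⟨d, hd⟩ := act_spec M i
  have hd0 : d ≠ 0 := by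
    rintro rfl
    rw [zero_smul] at hd
    exact image_ne M i hd.symm
  apply pv_uniq _ _ (c⁻¹ * d)
  have hc0 : c ≠ 0 := by
    rintro rfl
    rw [zero_smul] at h
    exact image_ne M i h.symm
  rw [mul_smul, hd, ← h, smul_smul, inv_mul_cancel₀ hc0, one_smul]

theorem act_one (i : Fin 57) : act 1 i = i := act_eq 1 i i 1 (by simp)

theorem act_mul (A B : Matrix.SpecialLinearGroup (Fin 3) (ZMod 7)) (i : Fin 57) :
    act (A * B) i = act A (act B i) := by
  obtain ⟨c, hc⟩ := act_spec B i
  obtain ⟨d, hd⟩ := act_spec A (act B i)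
  refine act_eq _ _ _ (c * d) ?_
  rw [mul_smul, hd, ← Matrix.mulVec_smul, hc, Matrix.mulVec_mulVec,
    Matrix.SpecialLinearGroup.coe_mul]

/-- The action of SL(3, 7) on the points. -/
noncomputable def π : Matrix.SpecialLinearGroup (Fin 3) (ZMod 7) →* Equiv.Perm (Fin 57) where
  toFun M :=
    { toFun := act M
      invFun := act M⁻¹
      left_inv := fun i => by rw [← act_mul, inv_mul_cancel, act_one]
      right_inv := fun i => by rw [← act_mul, mul_inv_cancel, act_one] }
  map_one' := Equiv.ext act_one
  map_mul' A B := Equiv.ext (act_mul A B)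

theorem center_le_ker :
    Subgroup.center (Matrix.SpecialLinearGroup (Fin 3) (ZMod 7)) ≤ π.ker := by
  intro M hM
  obtain ⟨r, -, hr⟩ := Matrix.SpecialLinearGroup.mem_center_iff.1 hM
  rw [MonoidHom.mem_ker]
  apply Equiv.ext
  intro i
  refine act_eq M i i r ?_
  rw [← hr]
  ext k
  simp [Matrix.mulVec_diagonal]

/-- The action of PSL(3, 7) on the points. -/
noncomputable def πbar :
    Matrix.ProjectiveSpecialLinearGroup (Fin 3) (ZMod 7) →* Equiv.Perm (Fin 57) :=
  QuotientGroup.lift _ π center_le_ker

theorem card_psl : Nat.card (Matrix.ProjectiveSpecialLinearGroup (Fin 3) (ZMod 7)) = 1876896 := by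
  have h1 := Linear.card_SL_eq_gcd_mul_card_PSL (ι := Fin 3) (F := ZMod 7)
  have h2 := Linear.sub_one_mul_card_SL (F := ZMod 7) 3 (by omega)
  rw [Fintype.card_fin, Nat.card_eq_fintype_card (α := ZMod 7), ZMod.card] at h1
  rw [ZMod.card, Fin.prod_univ_three] at h2
  rw [show Nat.gcd 3 (7 - 1) = 3 from rfl] at h1
  rw [h1] at h2
  norm_num at h2 ⊢
  omega

/-- Entries of the matrices. -/
def entry (g : ℕ) : Matrix (Fin 3) (Fin 3) (ZMod 7) :=
  Matrix.of fun i j => (((mats.getD g []).getD (3 * i.1 + j.1) 0 : ℕ) : ZMod 7)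

theorem entry_det : ∀ g < 6, Matrix.det (entry g) = 1 := by
  intro g hg
  rw [Matrix.det_fin_three]
  revert g
  decide +kernel

theorem entry_act : ∀ g < 6, ∀ i : Fin 57, ∃ j : Fin 57, j.1 = get32 table (i.1 * 6 + g) ∧
    ∃ c : ZMod 7, c • pv j = Matrix.mulVec (entry g) (pv i) := by
  decide +kernel

theorem pres_even : ∀ l ∈ RL0, (∀ g ∈ l, g < 6) ∧ l.length % 2 = 0 := by decide +kernel

/-- The parity. -/
theorem exists_parity : ∃ χ : PresentedGroup pres →* Multiplicative (ZMod 2),
    ∀ g < 6, χ (letters.phi pres g) = Multiplicative.ofAdd 1 :=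
  invPres_prod (n := 5) (fun _ => Multiplicative.ofAdd (1 : ZMod 2)) fun l hl => by
    refine ⟨(pres_even l hl).1, ?_⟩
    rw [List.map_const', List.prod_replicate]
    obtain ⟨k, hk⟩ : ∃ k, l.length = 2 * k := ⟨l.length / 2, by have := (pres_even l hl).2; omega⟩
    rw [hk, pow_mul, sq, show (Multiplicative.ofAdd (1 : ZMod 2) * Multiplicative.ofAdd 1 = 1) by decide,
      one_pow]

/-- The even subgroup. -/
noncomputable abbrev C : Subgroup (PresentedGroup pres) :=
  subOf letters pres (([0, 1, 2, 3, 4, 5] : List ℕ).map fun g => [0, g])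

theorem sq_phi (g : ℕ) (hg : g < 6) : letters.phi pres g * letters.phi pres g = 1 := by
  have h : ([g, g] : List ℕ) ∈ letters.RL := by revert g; decide +kernel
  simpa using Letters.prod_rel (S := pres) rels_mem letters_ok letters_col h

theorem gen_mem (g : ℕ) (hg : g < 6) : letters.phi pres 0 * letters.phi pres g ∈ C :=
  Subgroup.subset_closure ⟨[0, g], List.mem_map.2 ⟨g, by
    revert g; decide +kernel, rfl⟩, by simp⟩

theorem conj_mem (x : PresentedGroup pres) (hx : x ∈ C) :
    letters.phi pres 0 * x * letters.phi pres 0 ∈ C := by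
  have h0 := sq_phi 0 (by omega)
  induction hx using Subgroup.closure_induction with
  | mem x hx =>
    obtain ⟨l, hl, rfl⟩ := hx
    obtain ⟨g, hg, rfl⟩ := List.mem_map.1 hl
    have hg6 : g < 6 := by simp only [List.mem_cons, List.not_mem_nil, or_false] at hg; omega
    simp only [List.map_cons, List.map_nil, List.prod_cons, List.prod_nil, mul_one]
    have h := C.inv_mem (gen_mem g hg6)
    rw [mul_inv_rev, inv_eq_of_mul_eq_one_right (sq_phi g hg6), inv_eq_of_mul_eq_one_right h0] at h
    rwa [← mul_assoc (letters.phi pres 0) (letters.phi pres 0), h0, one_mul]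
  | one => rw [mul_one, h0]; exact C.one_mem
  | mul x y _ _ hx hy =>
    have := C.mul_mem hx hy
    convert this using 1
    rw [show letters.phi pres 0 * x * letters.phi pres 0 * (letters.phi pres 0 * y * letters.phi pres 0) =
      letters.phi pres 0 * x * (letters.phi pres 0 * letters.phi pres 0) * y * letters.phi pres 0 by group,
      h0, mul_one]
    group
  | inv x _ hx =>
    have := C.inv_mem hx
    rwa [mul_inv_rev, mul_inv_rev, inv_eq_of_mul_eq_one_right h0, ← mul_assoc] at this

theorem C_eq_ker (χ : PresentedGroup pres →* Multiplicative (ZMod 2))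
    (hχ : ∀ g < 6, χ (letters.phi pres g) = Multiplicative.ofAdd 1) : C = χ.ker := by
  have h0 := sq_phi 0 (by omega)
  have hle : C ≤ χ.ker := by
    refine (Subgroup.closure_le _).2 ?_
    rintro _ ⟨l, hl, rfl⟩
    obtain ⟨g, hg, rfl⟩ := List.mem_map.1 hl
    have hg6 : g < 6 := by simp only [List.mem_cons, List.not_mem_nil, or_false] at hg; omega
    simp [hχ 0 (by omega), hχ g hg6]
    decide
  have hall : ∀ x : PresentedGroup pres, x ∈ C ∨ letters.phi pres 0 * x ∈ C := by
    intro x
    have hx : x ∈ Subgroup.closure {z | ∃ g < letters.K, letters.phi pres g = z} := by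
      rw [Letters.gen_closure letters_col]; trivial
    induction hx using Subgroup.closure_induction with
    | mem x hx =>
      obtain ⟨g, hg, rfl⟩ := hx
      exact Or.inr (gen_mem g hg)
    | one => exact Or.inl C.one_mem
    | mul x y _ _ hx hy =>
      rcases hx with hx | hx <;> rcases hy with hy | hy
      · exact Or.inl (C.mul_mem hx hy)
      · refine Or.inr ?_
        have := C.mul_mem (conj_mem x hx) hy
        rwa [show letters.phi pres 0 * x * letters.phi pres 0 * (letters.phi pres 0 * y) =
          letters.phi pres 0 * x * (letters.phi pres 0 * letters.phi pres 0) * y by group,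
          h0, mul_one, mul_assoc] at this
      · exact Or.inr (by rw [← mul_assoc]; exact C.mul_mem hx hy)
      · refine Or.inl ?_
        have := C.mul_mem (conj_mem _ hx) hy
        rwa [show letters.phi pres 0 * (letters.phi pres 0 * x) * letters.phi pres 0 *
          (letters.phi pres 0 * y) = (letters.phi pres 0 * letters.phi pres 0) * x *
          (letters.phi pres 0 * letters.phi pres 0) * y by group, h0, mul_one, one_mul] at this
    | inv x _ hx =>
      rcases hx with hx | hx
      · exact Or.inl (C.inv_mem hx)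
      · refine Or.inr ?_
        have := conj_mem _ (C.inv_mem hx)
        rwa [mul_inv_rev, inv_eq_of_mul_eq_one_right h0,
          show letters.phi pres 0 * (x⁻¹ * letters.phi pres 0) * letters.phi pres 0 =
            letters.phi pres 0 * x⁻¹ * (letters.phi pres 0 * letters.phi pres 0) by group,
          h0, mul_one] at this
  refine le_antisymm hle fun x hx => ?_
  rcases hall x with h | h
  · exact h
  · exfalso
    have h1 := hle h
    rw [MonoidHom.mem_ker, map_mul, hχ 0 (by omega), MonoidHom.mem_ker.1 hx, mul_one] at h1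
    exact absurd h1 (by decide)

theorem index_C : C.index = 2 := by
  obtain ⟨χ, hχ⟩ := exists_parity
  rw [C_eq_ker χ hχ, Subgroup.index_ker]
  have : χ.range = ⊤ := by
    rw [eq_top_iff]
    intro y _
    have hy : y = 1 ∨ y = Multiplicative.ofAdd (1 : ZMod 2) := by
      clear * -
      revert y
      decide
    rcases hy with rfl | rfl
    · exact one_mem _
    · exact ⟨_, hχ 0 (by omega)⟩
  rw [this, Subgroup.card_top, Nat.card_congr Multiplicative.toAdd, Nat.card_zmod]

/-- Permutations preserving the points. -/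
def pointStab : Subgroup (Equiv.Perm (Fin 114)) where
  carrier := {s | ∀ i, (s i).1 < 57 ↔ i.1 < 57}
  mul_mem' {a b} ha hb i := by rw [Equiv.Perm.mul_apply, ha, hb]
  one_mem' _ := Iff.rfl
  inv_mem' {a} ha i := by rw [← ha]; simp

/-- Restriction to the points. -/
def res : pointStab →* Equiv.Perm (Fin 57) where
  toFun s :=
    { toFun := fun i => ⟨(s.1 (i.castLE (by omega))).1, (s.2 _).2 i.2⟩
      invFun := fun i => ⟨(s.1⁻¹ (i.castLE (by omega))).1, (pointStab.inv_mem s.2 _).2 i.2⟩
      left_inv := fun i => Fin.ext (by simp)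
      right_inv := fun i => Fin.ext (by simp) }
  map_one' := by ext i; simp
  map_mul' a b := by ext i; simp

theorem rels_fix : allBelow 114 (relAt letters.K table114 letters.RL) = true := by decide +kernel

theorem perm114 : permOK letters.K letters.IV 114 table114 = true := by decide +kernel

theorem table114_ok : TableOK letters 114 table114 where
  col := letters_col
  symcol := by decide +kernel
  invol := by decide +kernel
  perm := perm114
  rel _ hl _ hi := relsOK_rel rels_fix hi hl

theorem prods_ok : ∀ g < 6, ∀ i : Fin 114,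
    (scan 6 table114 [0, g] i.1 < 57 ↔ i.1 < 57) ∧
      (i.1 < 57 → scan 6 table114 [0, g] i.1 = get32 table (i.1 * 6 + g)) := by
  decide +kernel

theorem nonempty_iso :
    Nonempty (C ≃* Matrix.ProjectiveSpecialLinearGroup (Fin 3) (ZMod 7)) ∧
      Nat.card (PresentedGroup pres) = 3753792 := by
  obtain ⟨ρ, hρ⟩ := exists_tableHom letters pres
    ⟨rels_mem, fun _ h => h⟩ letters_ok table114_ok
  have hscan : ∀ g < 6, ∀ i : Fin 114,
      ((ρ (letters.phi pres 0 * letters.phi pres g))⁻¹ i).1 = scan 6 table114 [0, g] i.1 := by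
    intro g hg i
    have := scan_of_table ρ (letters.phi pres) hρ [0, g] (by simp; exact ⟨Nat.succ_pos _, hg⟩) i
    rw [show letters.K = 6 from rfl] at this
    simpa using this
  have hmem : ∀ x ∈ C, ρ x ∈ pointStab := by
    intro x hx
    induction hx using Subgroup.closure_induction with
    | mem x hx =>
      obtain ⟨l, hl, rfl⟩ := hx
      obtain ⟨g, hg, rfl⟩ := List.mem_map.1 hl
      have hg6 : g < 6 := by simp only [List.mem_cons, List.not_mem_nil, or_false] at hg; omega
      simp only [List.map_cons, List.map_nil, List.prod_cons, List.prod_nil, mul_one]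
      rw [← inv_mem_iff]
      intro i
      rw [hscan g hg6 i]
      exact (prods_ok g hg6 i).1
    | one => rw [map_one]; exact one_mem _
    | mul x y _ _ hx hy => rw [map_mul]; exact mul_mem hx hy
    | inv x _ hx => rw [map_inv]; exact inv_mem hx
  let ρC : C →* Equiv.Perm (Fin 57) :=
    res.comp ((ρ.comp C.subtype).codRestrict pointStab fun x => hmem x.1 x.2)
  let gen : ℕ → C := fun g => if h : g < 6 then ⟨_, gen_mem g h⟩ else 1
  have hgen : ∀ g < 6, ∀ i : Fin 57, ((ρC (gen g))⁻¹ i).1 = get32 table (i.1 * 6 + g) := by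
    intro g hg i
    simp only [gen, dif_pos hg]
    change ((ρ (letters.phi pres 0 * letters.phi pres g))⁻¹ (i.castLE (by omega))).1 = _
    rw [hscan g hg]
    exact (prods_ok g hg _).2 i.2
  have hge : 1876896 ≤ Nat.card ρC.range := L37Slp.card_ge ρC gen hgen
  have hsub : ρC.range ≤ πbar.range := by
    rintro _ ⟨⟨x, hx⟩, rfl⟩
    induction hx using Subgroup.closure_induction with
    | mem x hx =>
      obtain ⟨l, hl, rfl⟩ := hx
      obtain ⟨g, hg, rfl⟩ := List.mem_map.1 hl
      have hg6 : g < 6 := by simp only [List.mem_cons, List.not_mem_nil, or_false] at hg; omega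
      rw [← inv_mem_iff]
      refine ⟨QuotientGroup.mk ⟨entry g, entry_det g hg6⟩, ?_⟩
      apply Equiv.ext
      intro i
      obtain ⟨j, hj, c, hc⟩ := entry_act g hg6 i
      change act _ i = _
      rw [act_eq ⟨entry g, entry_det g hg6⟩ i j c hc]
      apply Fin.ext
      have := hgen g hg6 i
      simp only [gen, dif_pos hg6] at this
      rw [hj, ← this]
      congr 4
      exact Subtype.ext (by simp)
    | one => exact map_one ρC ▸ one_mem _
    | mul x y hx hy h1 h2 => exact map_mul ρC ⟨x, hx⟩ ⟨y, hy⟩ ▸ mul_mem h1 h2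
    | inv x hx h1 => exact map_inv ρC ⟨x, hx⟩ ▸ inv_mem h1
  haveI : Finite (PresentedGroup pres) := Nat.finite_of_card_ne_zero card_le.1
  have hC1 : Nat.card ρC.range ≤ Nat.card C :=
    Nat.card_le_card_of_surjective ρC.rangeRestrict ρC.rangeRestrict_surjective
  have hmul := C.card_mul_index
  rw [index_C] at hmul
  have hP := card_le.2
  have hCcard : Nat.card C = 1876896 := by omega
  have hinj : Function.Injective ρC :=
    injective_of_card ρC ⟨by omega, hCcard.le⟩ hge
  have hR : Nat.card πbar.range ≤ 1876896 := card_psl ▸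
    Nat.card_le_card_of_surjective πbar.rangeRestrict πbar.rangeRestrict_surjective
  have heq : ρC.range = πbar.range :=
    Subgroup.eq_of_le_of_card_ge hsub (hR.trans hge)
  have hπ : Function.Injective πbar := injective_of_card πbar
    ⟨by rw [card_psl]; omega, card_psl.le⟩ (heq ▸ hge)
  exact ⟨⟨((MonoidHom.ofInjective hinj).trans (MulEquiv.subgroupCongr heq)).trans
    (MonoidHom.ofInjective hπ).symm⟩, by omega⟩

end Cfsg.Agent.Lib.CosetEnum.L37
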